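import Cfsg.Agent.Alt57.ProdBound
import Mathlib.GroupTheory.SpecificGroups.Alternating
import Mathlib.GroupTheory.GroupAction.Quotient
import Mathlib.GroupTheory.Index

/-! Abelian subgroups of alternating groups of largest order. -/

set_option autoImplicit false

namespace Cfsg.Agent.Alt57

open Equiv

section upper

variable {n : ℕ} (A : Subgroup (alternatingGroup (Fin n))) (hA : IsMulCommutative A)
include hA

theorem abelian_orbit_data :
    ∃ s : Multiset ℕ, s.sum = n ∧ (∀ a ∈ s, a ≠ 0) ∧ Nat.card A ∣ s.prod ∧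
      (2 ∈ s → Nat.card A * 2 ≤ s.prod) := by
  classical
  letI : CommGroup A := { (inferInstance : Group A) with mul_comm := hA.is_comm.comm }
  let Ω := MulAction.orbitRel.Quotient A (Fin n)
  haveI : Fintype Ω := Fintype.ofFinite Ω
  let St : Ω → Subgroup A := fun ω => MulAction.stabilizer A ω.out
  let e := MulAction.selfEquivSigmaOrbitsQuotientStabilizer A (Fin n)
  let f : A →* ∀ ω : Ω, A ⧸ St ω := MonoidHom.mk' (fun a ω => QuotientGroup.mk a) (fun a b => rfl)
  have hfix : ∀ (a : A) (ω : Ω), a ∈ St ω → ∀ j : Fin n, Quotient.mk'' j = ω → a • j = j := by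
    intro a ω ha j hj
    obtain ⟨b, hb⟩ : j ∈ MulAction.orbit A ω.out :=
      (MulAction.orbitRel_apply).1 (Quotient.exact' (hj.trans (Quotient.out_eq' ω).symm))
    dsimp only at hb
    rw [← hb, smul_smul, mul_comm, ← smul_smul, show a • ω.out = ω.out from ha]
  have hinj : Function.Injective f := by
    rw [injective_iff_map_eq_one]
    intro a ha
    apply Subtype.ext; apply Subtype.ext
    ext1 j
    exact hfix a _ ((QuotientGroup.eq_one_iff a).1 (congrFun ha (Quotient.mk'' j))) j rfl
  have hn : ∑ ω, Nat.card (A ⧸ St ω) = n := by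
    rw [← Nat.card_sigma, ← Nat.card_congr e, Nat.card_eq_fintype_card, Fintype.card_fin]
  have hprod : Nat.card (∀ ω, A ⧸ St ω) = ∏ ω, Nat.card (A ⧸ St ω) := Nat.card_pi
  refine ⟨Finset.univ.val.map (fun ω => Nat.card (A ⧸ St ω)), hn, ?_, ?_, ?_⟩
  · intro a ha
    obtain ⟨ω, -, rfl⟩ := Multiset.mem_map.1 ha
    exact Nat.card_pos.ne'
  · show Nat.card A ∣ ∏ ω, Nat.card (A ⧸ St ω)
    rw [← hprod, Nat.card_congr (MonoidHom.ofInjective hinj).toEquiv]
    exact Subgroup.card_subgroup_dvd_card _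
  · intro h2
    obtain ⟨ω₀, -, hω⟩ := Multiset.mem_map.1 h2
    show Nat.card A * 2 ≤ ∏ ω, Nat.card (A ⧸ St ω)
    rw [← hprod, Nat.card_congr (MonoidHom.ofInjective hinj).toEquiv, ← Subgroup.card_mul_index f.range]
    refine Nat.mul_le_mul_left _ ?_
    have h0 : f.range.index ≠ 0 := Subgroup.index_ne_zero_of_finite
    have h1 : f.range.index ≠ 1 := by
      intro hi
      rw [Subgroup.index_eq_one] at hi
      obtain ⟨g, hg⟩ : ∃ g : A ⧸ St ω₀, g ≠ 1 := by
        by_contra hc
        push Not at hc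
        haveI : Subsingleton (A ⧸ St ω₀) := ⟨fun x y => (hc x).trans (hc y).symm⟩
        have := Nat.card_unique (α := A ⧸ St ω₀)
        omega
      have hmem : Function.update (1 : ∀ ω, A ⧸ St ω) ω₀ g ∈ f.range := hi ▸ Subgroup.mem_top _
      obtain ⟨a, ha⟩ := hmem
      have hfixed : ∀ j : Fin n, (a.1.1 : Perm (Fin n)) j ≠ j → Quotient.mk'' j = ω₀ := by
        intro j hj
        by_contra hne
        refine hj (hfix a (Quotient.mk'' j) ((QuotientGroup.eq_one_iff a).1 ?_) j rfl)
        have := congrFun ha (Quotient.mk'' j)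
        rwa [Function.update_of_ne hne] at this
      have hsub : (a.1.1 : Perm (Fin n)).support ⊆ Finset.univ.filter (fun j => (e j).1 = ω₀) := by
        intro j hj
        rw [Perm.mem_support] at hj
        simp only [Finset.mem_filter, Finset.mem_univ, true_and]
        exact hfixed j hj
      have hcard : (Finset.univ.filter (fun j => (e j).1 = ω₀)).card = 2 := by
        rw [← hω, ← Fintype.card_subtype, ← Nat.card_eq_fintype_card]
        exact Nat.card_congr ((e.subtypeEquiv (fun _ => Iff.rfl)).trans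
          ({ toFun := fun x => x.2 ▸ x.1.2, invFun := fun x => ⟨⟨ω₀, x⟩, rfl⟩,
             left_inv := by rintro ⟨⟨w, x⟩, rfl⟩; rfl, right_inv := fun _ => rfl } :
            {p : Σ ω, A ⧸ St ω // p.1 = ω₀} ≃ A ⧸ St ω₀))
      have hne1 : (a.1.1 : Perm (Fin n)) ≠ 1 := by
        intro h1'
        have e' := congrFun ha ω₀
        rw [Function.update_self, show a = 1 from Subtype.ext (Subtype.ext h1'), map_one, Pi.one_apply] at e'
        exact hg e'.symm
      have hsupp : (a.1.1 : Perm (Fin n)).support.card = 2 := by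
        have h2' := Perm.two_le_card_support_of_ne_one hne1
        have := Finset.card_le_card hsub
        omega
      have hsign := a.1.2
      rw [Perm.mem_alternatingGroup, (Perm.card_support_eq_two.1 hsupp).sign_eq] at hsign
      exact absurd hsign (by decide)
    omega

theorem abelian_le_three : ∀ k, n = 3 * k → Nat.card A ≤ 3 ^ k := by
  intro k hk
  obtain ⟨s, hs, h0, hd, -⟩ := abelian_orbit_data A hA
  refine (Nat.le_of_dvd (Nat.pos_of_ne_zero fun h => ?_) hd).trans ?_
  · exact (h0 0 (Multiset.prod_eq_zero_iff.1 h)) rfl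
  · rw [← maxProd_three_mul, ← hk, ← hs]; exact prod_le_maxProd s h0

theorem abelian_le_three_one : ∀ k, n = 3 * k + 4 → Nat.card A ≤ 4 * 3 ^ k := by
  intro k hk
  obtain ⟨s, hs, h0, hd, -⟩ := abelian_orbit_data A hA
  refine (Nat.le_of_dvd (Nat.pos_of_ne_zero fun h => ?_) hd).trans ?_
  · exact (h0 0 (Multiset.prod_eq_zero_iff.1 h)) rfl
  · rw [← maxProd_three_mul_add_one, ← hk, ← hs]; exact prod_le_maxProd s h0

theorem abelian_le_three_two : ∀ k, n = 3 * k + 8 → Nat.card A ≤ 16 * 3 ^ k := by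
  intro k hk
  obtain ⟨s, hs, h0, hd, h2⟩ := abelian_orbit_data A hA
  by_cases h : 2 ∈ s
  · have hle := h2 h
    obtain ⟨t, rfl⟩ := Multiset.exists_cons_of_mem h
    rw [Multiset.sum_cons] at hs
    rw [Multiset.prod_cons] at hle
    have ht := prod_le_maxProd t (fun a ha => h0 a (Multiset.mem_cons_of_mem ha))
    rw [show t.sum = 3 * (k + 2) by omega, maxProd_three_mul, pow_add] at ht
    omega
  · refine (Nat.le_of_dvd (Nat.pos_of_ne_zero fun h => ?_) hd).trans ?_
    · exact (h0 0 (Multiset.prod_eq_zero_iff.1 h)) rfl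
    · rw [← maxProdNoTwo_eq, ← hk, ← hs]
      exact prod_le_maxProdNoTwo s h0 (fun a ha e => h (e ▸ ha))

end upper

section lower

theorem sign_toPermHom_of_odd {G : Type*} [CommGroup G] [Fintype G] [DecidableEq G] (g : G) (m : ℕ)
    (hm : Odd m) (hg : g ^ m = 1) : Perm.sign (MulAction.toPermHom G G g) = 1 := by
  have h : Perm.sign (MulAction.toPermHom G G g) ^ m = 1 := by rw [← map_pow, ← map_pow, hg, map_one, map_one]
  rcases Int.units_eq_one_or (Perm.sign (MulAction.toPermHom G G g)) with e | e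
  · exact e
  · rw [e, hm.neg_one_pow] at h; exact absurd h (by decide)

/-- Powers of a group acting regularly on disjoint blocks. -/
def blockHom (j : ℕ) (G : Type*) [Group G] : (Fin j → G) →* Perm (Fin j × G) :=
  MonoidHom.mk' (fun f => Equiv.prodCongrRight (fun i => MulAction.toPermHom G G (f i))) (fun f g => by
    ext ⟨i, x⟩ <;> simp [mul_assoc])

theorem blockHom_injective (j : ℕ) (G : Type*) [Group G] : Function.Injective (blockHom j G) := by
  intro f g h
  funext i
  have := congrArg (fun p : Perm (Fin j × G) => (p (i, 1)).2) h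
  simpa [blockHom] using this

theorem sign_blockHom (j : ℕ) (G : Type*) [Group G] [Fintype G] [DecidableEq G]
    (h : ∀ g : G, Perm.sign (MulAction.toPermHom G G g) = 1) (f : Fin j → G) :
    Perm.sign (blockHom j G f) = 1 := by
  show Perm.sign (Equiv.prodCongrRight (fun i => MulAction.toPermHom G G (f i))) = 1
  rw [Perm.sign_prodCongrRight]
  exact Finset.prod_eq_one fun i _ => h (f i)

theorem exists_abelian (j l : ℕ) :
    ∃ A : Subgroup (alternatingGroup (Fin (3 * j + 4 * l))), IsMulCommutative A ∧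
      Nat.card A = 3 ^ j * 4 ^ l := by
  let G3 := Multiplicative (ZMod 3)
  let G4 := Multiplicative (ZMod 2 × ZMod 2)
  have h3 : ∀ g : G3, Perm.sign (MulAction.toPermHom G3 G3 g) = 1 := fun g =>
    sign_toPermHom_of_odd g 3 ⟨1, rfl⟩ (by
      have : Fintype.card G3 = 3 := by simp [G3]
      have h := pow_card_eq_one (x := g)
      rwa [this] at h)
  have h4 : ∀ g : G4, Perm.sign (MulAction.toPermHom G4 G4 g) = 1 := by decide
  let ψ : (Fin j → G3) × (Fin l → G4) →* Perm ((Fin j × G3) ⊕ (Fin l × G4)) :=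
    (Perm.sumCongrHom _ _).comp ((blockHom j G3).prodMap (blockHom l G4))
  let e : (Fin j × G3) ⊕ (Fin l × G4) ≃ Fin (3 * j + 4 * l) :=
    Fintype.equivFinOfCardEq (by simp [G3, G4, Fintype.card_prod]; ring)
  have hψ : Function.Injective ψ := Perm.sumCongrHom_injective.comp
    (Function.Injective.prodMap (blockHom_injective j G3) (blockHom_injective l G4))
  have hsign : ∀ p, Perm.sign (e.permCongr (ψ p)) = 1 := by
    intro p
    rw [Perm.sign_permCongr]
    show Perm.sign (Equiv.sumCongr (blockHom j G3 p.1) (blockHom l G4 p.2)) = 1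
    rw [Perm.sign_sumCongr, sign_blockHom j G3 h3, sign_blockHom l G4 h4, one_mul]
  let Φ : (Fin j → G3) × (Fin l → G4) →* alternatingGroup (Fin (3 * j + 4 * l)) :=
    MonoidHom.mk' (fun p => ⟨e.permCongr (ψ p), Perm.mem_alternatingGroup.2 (hsign p)⟩) (fun p r => by
      apply Subtype.ext
      show e.permCongr (ψ (p * r)) = e.permCongr (ψ p) * e.permCongr (ψ r)
      ext x
      simp [Equiv.permCongr_apply])
  have hΦ : Function.Injective Φ := fun p r h => hψ (e.permCongr.injective (congrArg Subtype.val h))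
  refine ⟨Φ.range, ⟨⟨fun a b => ?_⟩⟩, ?_⟩
  · obtain ⟨p, hp⟩ := a.2
    obtain ⟨r, hr⟩ := b.2
    exact Subtype.ext (by rw [Subgroup.coe_mul, Subgroup.coe_mul, ← hp, ← hr, ← map_mul, ← map_mul, mul_comm p r])
  · rw [← Nat.card_congr (MonoidHom.ofInjective hΦ).toEquiv, Nat.card_eq_fintype_card]
    simp [G3, G4, Fintype.card_pi, Fintype.card_prod]

theorem abelian_alternating_greatest (k : ℕ) (hk : 2 ≤ k) :
    IsGreatest {c : ℕ | ∃ A : Subgroup (alternatingGroup (Fin (3 * k))), IsMulCommutative A ∧ Nat.card A = c}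
      (3 ^ k) ∧
    IsGreatest {c : ℕ | ∃ A : Subgroup (alternatingGroup (Fin (3 * k + 1))), IsMulCommutative A ∧ Nat.card A = c}
      (4 * 3 ^ (k - 1)) ∧
    IsGreatest {c : ℕ | ∃ A : Subgroup (alternatingGroup (Fin (3 * k + 2))), IsMulCommutative A ∧ Nat.card A = c}
      (16 * 3 ^ (k - 2)) := by
  obtain ⟨k, rfl⟩ : ∃ m, k = m + 2 := ⟨k - 2, by omega⟩
  rw [show k + 2 - 1 = k + 1 from rfl, show k + 2 - 2 = k from rfl]
  refine ⟨⟨?_, ?_⟩, ⟨?_, ?_⟩, ⟨?_, ?_⟩⟩
  · obtain ⟨A, h1, h2⟩ := exists_abelian (k + 2) 0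
    exact ⟨A, h1, by simpa using h2⟩
  · rintro _ ⟨A, h1, rfl⟩
    exact abelian_le_three A h1 _ rfl
  · have h := exists_abelian (k + 1) 1
    rw [show 3 * (k + 1) + 4 * 1 = 3 * (k + 2) + 1 by ring, pow_one, mul_comm (3 ^ (k + 1))] at h
    exact h
  · rintro _ ⟨A, h1, rfl⟩
    exact abelian_le_three_one A h1 (k + 1) (by ring)
  · have h := exists_abelian k 2
    rw [show 3 * k + 4 * 2 = 3 * (k + 2) + 2 by ring, mul_comm (3 ^ k)] at h
    exact h
  · rintro _ ⟨A, h1, rfl⟩
    exact abelian_le_three_two A h1 k (by ring)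

end lower

end Cfsg.Agent.Alt57
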