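import Cfsg.Agent.Alt57.InvolFactor
import Cfsg.Agent.S3335
import Mathlib.GroupTheory.SpecificGroups.Alternating.Simple

/-!
# Every element of a perfect double cover of an alternating group is a commutator

The lifts of two commuting double transpositions on the same four letters anticommute, since
otherwise Moore's presentation would split the cover.
-/

set_option autoImplicit false

namespace Cfsg.Agent.Alt57.CoverComm

open Equiv Equiv.Perm
open scoped commutatorElement

/-! ### Four letters -/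

section four

variable {α : Type*} [Fintype α] [DecidableEq α]

omit [Fintype α] [DecidableEq α] in
theorem four_injective {p q r s : α} (h : Four p q r s) : Function.Injective ![p, q, r, s] := by
  obtain ⟨h1, h2, h3, h4, h5, h6⟩ := h
  intro i j
  fin_cases i <;> fin_cases j <;>
    simp [h1, h2, h3, h4, h5, h6, h1.symm, h2.symm, h3.symm, h4.symm, h5.symm, h6.symm]

omit [Fintype α] in
theorem via_swap (ι : Fin 4 ↪ α) (i j : Fin 4) :
    viaEmbeddingHom ι (swap i j) = swap (ι i) (ι j) := by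
  refine Equiv.ext fun x => ?_
  rw [viaEmbeddingHom_apply]
  by_cases hx : x ∈ Set.range ι
  · obtain ⟨k, rfl⟩ := hx
    rw [viaEmbedding_apply]
    exact (Function.Embedding.swap_apply ι i j k).symm
  · rw [viaEmbedding_apply_of_notMem _ _ _ hx, swap_apply_of_ne_of_ne]
    · exact fun e => hx ⟨i, e.symm⟩
    · exact fun e => hx ⟨j, e.symm⟩

theorem sign_via (ι : Fin 4 ↪ α) (u : Perm (Fin 4)) : sign (viaEmbeddingHom ι u) = sign u := by
  induction u using swap_induction_on with
  | one => simp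
  | swap_mul f x y hxy ih =>
    rw [map_mul, map_mul, ih, via_swap, map_mul, sign_swap hxy,
      sign_swap (ι.injective.ne hxy)]

omit [Fintype α] in
theorem klein_mul {p q r s : α} (h : Four p q r s) :
    (swap p r * swap q s) * (swap p q * swap r s) = swap p s * swap q r := by
  let ι : Fin 4 ↪ α := ⟨![p, q, r, s], four_injective h⟩
  have e : ((swap 0 2 * swap 1 3) * (swap 0 1 * swap 2 3) : Perm (Fin 4)) =
      swap 0 3 * swap 1 2 := by decide
  have e' := congrArg (viaEmbeddingHom ι) e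
  simpa [via_swap, ι] using e'

/-- Double transpositions. -/
def IsDT (d : Perm α) : Prop := ∃ p q r s : α, Four p q r s ∧ d = swap p q * swap r s

/-- The partner transversal: a commutator of even permutations commuting with everything that
fixes the four letters. -/
theorem klein_commutator {p q r s : α} (h : Four p q r s) :
    ∃ x y : Perm α, sign x = 1 ∧ sign y = 1 ∧ x * y * x⁻¹ * y⁻¹ = swap p r * swap q s ∧
      ∀ R : Perm α, R p = p → R q = q → R r = r → R s = s → Commute R x ∧ Commute R y := by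
  let ι : Fin 4 ↪ α := ⟨![p, q, r, s], four_injective h⟩
  obtain ⟨x, y, hx, hy, hxy⟩ : ∃ x y : Perm (Fin 4), sign x = 1 ∧ sign y = 1 ∧
      x * y * x⁻¹ * y⁻¹ = swap 0 2 * swap 1 3 :=
    ⟨swap 0 1 * swap 1 2, swap 0 3 * swap 3 2, by decide, by decide, by decide⟩
  refine ⟨viaEmbeddingHom ι x, viaEmbeddingHom ι y, (sign_via ι x).trans hx,
    (sign_via ι y).trans hy, ?_, fun R a1 a2 a3 a4 => ?_⟩
  · have e' := congrArg (viaEmbeddingHom ι) hxy
    simpa [via_swap, ι] using e'
  · have hcomm : ∀ u : Perm (Fin 4), Commute R (viaEmbeddingHom ι u) := by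
      intro u
      refine Perm.Disjoint.commute fun z => ?_
      by_cases hz : z ∈ Set.range ι
      · left
        obtain ⟨k, rfl⟩ := hz
        fin_cases k <;> assumption
      · right
        rw [viaEmbeddingHom_apply]
        exact viaEmbedding_apply_of_notMem _ _ _ hz
    exact ⟨hcomm x, hcomm y⟩

theorem isDT_conj {d d' : Perm α} (hd : IsDT d) (hd' : IsDT d') :
    ∃ h : Perm α, sign h = 1 ∧ h * d * h⁻¹ = d' := by
  obtain ⟨p, q, r, s, hF, rfl⟩ := hd
  obtain ⟨p', q', r', s', hF', rfl⟩ := hd'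
  have hc : IsConj (swap p q * swap r s) ((swap p' q' * swap r' s') * (swap p q * swap r s)⁻¹ *
      (swap p q * swap r s)) := by
    rw [inv_mul_cancel_right, isConj_iff_cycleType_eq, type_two_two hF, type_two_two hF']
  obtain ⟨h, hs, hh⟩ := even_conj (σ := (swap p' q' * swap r' s') * (swap p q * swap r s)⁻¹)
    ⟨p, q, r, s, hF, four_apply hF⟩ hc
  exact ⟨h, hs, by rw [hh, inv_mul_cancel_right]⟩

omit [Fintype α] in
/-- Removing two 2-cycles. -/
theorem split_pairs {b : Perm α} {p q r s : α} (hF : Four p q r s) (h1 : b p = q) (h2 : b q = p)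
    (h3 : b r = s) (h4 : b s = r) :
    ∃ R : Perm α, b = (swap p q * swap r s) * R ∧ R p = p ∧ R q = q ∧ R r = r ∧ R s = s := by
  refine ⟨(swap p q * swap r s)⁻¹ * b, (mul_inv_cancel_left _ _).symm, ?_⟩
  obtain ⟨e1, e2, e3, e4⟩ := four_apply hF
  simp only [mul_apply (swap p q * swap r s)⁻¹ b, h1, h2, h3, h4, inv_eq_iff_eq]
  exact ⟨e1.symm, e2.symm, e3.symm, e4.symm⟩

end four

/-! ### The cover -/

variable {n : ℕ} {G : Type*} [Group G]

/-- The generators of Moore's presentation. -/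
def moore (k : ℕ) (i : Fin (k + 1)) : Perm (Fin (k + 3)) :=
  if i.val = 0 then swap ⟨0, by omega⟩ ⟨1, by omega⟩ * swap ⟨1, by omega⟩ ⟨2, by omega⟩
  else swap ⟨0, by omega⟩ ⟨1, by omega⟩ *
    swap ⟨i.val + 1, by omega⟩ ⟨i.val + 2, by omega⟩

theorem moore_sign (k : ℕ) (i : Fin (k + 1)) : sign (moore k i) = 1 := by
  unfold moore
  split <;> rw [map_mul, sign_swap (by simp), sign_swap (by simp)] <;> rfl

theorem cube_swap_swap {α : Type*} [Fintype α] [DecidableEq α] {a b c : α} (hab : a ≠ b)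
    (hac : a ≠ c) (hbc : b ≠ c) : (swap a b * swap a c) ^ 3 = 1 := by
  rw [← (isThreeCycle_swap_mul_swap_same hab hac hbc).orderOf]
  exact pow_orderOf_eq_one _

theorem moore_zero (k : ℕ) {i : Fin (k + 1)} (hi : i.val = 0) : moore k i ^ 3 = 1 := by
  rw [moore, if_pos hi, swap_comm (⟨0, by omega⟩ : Fin (k + 3)) ⟨1, by omega⟩]
  exact cube_swap_swap (by simp) (by simp) (by simp)

theorem moore_isDT (k : ℕ) {i : Fin (k + 1)} (hi : 1 ≤ i.val) : IsDT (moore k i) := by
  refine ⟨⟨0, by omega⟩, ⟨1, by omega⟩, ⟨i.val + 1, by omega⟩, ⟨i.val + 2, by omega⟩, ?_, ?_⟩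
  · unfold Four
    simp only [ne_eq, Fin.ext_iff]
    omega
  · rw [moore, if_neg (by omega)]

theorem moore_adj (k : ℕ) {i j : Fin (k + 1)} (hij : j.val = i.val + 1) :
    (moore k i * moore k j) ^ 3 = 1 := by
  set P : ℕ → Fin (k + 3) := fun a => ⟨a % (k + 3), Nat.mod_lt _ (by omega)⟩
  have hP : ∀ (a : ℕ) (ha : a < k + 3), (⟨a, ha⟩ : Fin (k + 3)) = P a := fun a ha =>
    Fin.ext (Nat.mod_eq_of_lt ha).symm
  have hi3 : i.val + 3 < k + 3 := by omega
  by_cases hi : i.val = 0
  · rw [moore, if_pos hi, moore, if_neg (by omega)]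
    simp only [hP, hij, hi]
    have h01 : P 0 ≠ P 1 := by simp [P, Fin.ext_iff, Nat.mod_eq_of_lt]
    have h02 : P 0 ≠ P 2 := by simp [P, Fin.ext_iff, Nat.mod_eq_of_lt]
    have h12 : P 1 ≠ P 2 := by simp [P, Fin.ext_iff, Nat.mod_eq_of_lt]
    have h23 : P 2 ≠ P 3 := by
      simp [P, Fin.ext_iff, Nat.mod_eq_of_lt (show 3 < k + 3 by omega), Nat.mod_eq_of_lt]
    have h03 : P 0 ≠ P 3 := by
      simp [P, Fin.ext_iff, Nat.mod_eq_of_lt (show 3 < k + 3 by omega), Nat.mod_eq_of_lt]
    have e : swap (P 0) (P 1) * swap (P 1) (P 2) * swap (P 0) (P 1) = swap (P 0) (P 2) := by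
      have := swap_conj (swap (P 0) (P 1)) (P 1) (P 2)
      rwa [swap_inv, swap_apply_right, swap_apply_of_ne_of_ne h02.symm h12.symm] at this
    rw [← mul_assoc, e, swap_comm (P 0) (P 2)]
    exact cube_swap_swap h02.symm h23 h03
  · rw [moore, if_neg hi, moore, if_neg (by omega)]
    simp only [hij]
    set a : Fin (k + 3) := ⟨0, by omega⟩
    set b : Fin (k + 3) := ⟨1, by omega⟩
    set c : Fin (k + 3) := ⟨i.val + 1, by omega⟩
    set d : Fin (k + 3) := ⟨i.val + 2, by omega⟩
    set e : Fin (k + 3) := ⟨i.val + 1 + 2, by omega⟩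
    have hd : (⟨i.val + 1 + 1, by omega⟩ : Fin (k + 3)) = d := rfl
    have hne : ∀ x y : Fin (k + 3), x.val ≠ y.val → x ≠ y := fun x y h e => h (congrArg Fin.val e)
    have hcm : swap c d * swap a b = swap a b * swap c d := by
      have := swap_conj (swap c d) a b
      rw [swap_apply_of_ne_of_ne (hne _ _ (show 0 ≠ i.val + 1 by omega))
          (hne _ _ (show 0 ≠ i.val + 2 by omega)),
        swap_apply_of_ne_of_ne (hne _ _ (show 1 ≠ i.val + 1 by omega))
          (hne _ _ (show 1 ≠ i.val + 2 by omega)), mul_inv_eq_iff_eq_mul] at this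
      exact this
    have : swap a b * swap c d * (swap a b * swap d e) = swap d c * swap d e := by
      rw [mul_assoc, ← mul_assoc (swap c d), hcm, ← mul_assoc, ← mul_assoc, swap_mul_self,
        one_mul, swap_comm c d]
    rw [this]
    exact cube_swap_swap (hne _ _ (show i.val + 2 ≠ i.val + 1 by omega))
      (hne _ _ (show i.val + 2 ≠ i.val + 1 + 2 by omega))
      (hne _ _ (show i.val + 1 ≠ i.val + 1 + 2 by omega))

theorem moore_far (k : ℕ) {i j : Fin (k + 1)} (hij : i.val + 1 < j.val) :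
    IsDT (moore k i * moore k j) := by
  set a : Fin (k + 3) := ⟨0, by omega⟩ with ha
  set b : Fin (k + 3) := ⟨1, by omega⟩ with hb
  set r : Fin (k + 3) := ⟨j.val + 1, by omega⟩ with hr
  set s : Fin (k + 3) := ⟨j.val + 2, by omega⟩ with hs
  by_cases hi : i.val = 0
  · set c : Fin (k + 3) := ⟨2, by omega⟩ with hc
    refine ⟨a, c, r, s, ?_, ?_⟩
    · unfold Four; simp only [ha, hc, hr, hs, ne_eq, Fin.ext_iff]; omega
    · rw [moore, if_pos hi, moore, if_neg (by omega), ← ha, ← hb, ← hc, ← hr, ← hs]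
      have := swap_conj (swap a b) b c
      rw [swap_inv, swap_apply_right, swap_apply_of_ne_of_ne
        (by simp only [ha, hc, ne_eq, Fin.ext_iff]; omega)
        (by simp only [hb, hc, ne_eq, Fin.ext_iff]; omega)] at this
      rw [← mul_assoc, this]
  · set c : Fin (k + 3) := ⟨i.val + 1, by omega⟩ with hc
    set d : Fin (k + 3) := ⟨i.val + 2, by omega⟩ with hd
    refine ⟨c, d, r, s, ?_, ?_⟩
    · unfold Four; simp only [hc, hd, hr, hs, ne_eq, Fin.ext_iff]; omega
    · rw [moore, if_neg hi, moore, if_neg (by omega), ← ha, ← hb, ← hc, ← hd, ← hr, ← hs]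
      have := swap_conj (swap c d) a b
      rw [swap_apply_of_ne_of_ne (by simp only [ha, hc, ne_eq, Fin.ext_iff]; omega)
          (by simp only [ha, hd, ne_eq, Fin.ext_iff]; omega),
        swap_apply_of_ne_of_ne (by simp only [hb, hc, ne_eq, Fin.ext_iff]; omega)
          (by simp only [hb, hd, ne_eq, Fin.ext_iff]; omega), mul_inv_eq_iff_eq_mul] at this
      rw [mul_assoc, ← mul_assoc (swap c d), this, ← mul_assoc, ← mul_assoc, swap_mul_self,
        one_mul]

/-- A perfect double cover of `A_n`, as a map to the symmetric group. -/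
structure Cover (n : ℕ) (G : Type*) [Group G] where
  /-- the projection -/
  q : G →* Perm (Fin n)
  /-- the central involution -/
  z : G
  sign_q : ∀ x, sign (q x) = 1
  surj : ∀ σ, sign σ = 1 → ∃ x, q x = σ
  z_ne : z ≠ 1
  z_sq : z * z = 1
  z_comm : ∀ x, Commute z x
  ker : ∀ x, q x = 1 → x = 1 ∨ x = z
  q_z : q z = 1

namespace Cover

variable (C : Cover n G)

theorem eq_or {x y : G} (h : C.q x = C.q y) : x = y ∨ x = C.z * y := by
  rcases C.ker (x * y⁻¹) (by rw [map_mul, map_inv, h, mul_inv_cancel]) with e | e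
  · exact Or.inl (mul_inv_eq_one.1 e)
  · exact Or.inr (by rw [← e, inv_mul_cancel_right])

theorem sq_congr {x y : G} (h : C.q x = C.q y) : x * x = y * y := by
  rcases C.eq_or h with rfl | rfl
  · rfl
  · rw [(C.z_comm y).symm.mul_mul_mul_comm, C.z_sq, one_mul]

theorem sq_DT {x y : G} (hx : IsDT (C.q x)) (hy : IsDT (C.q y)) : y * y = x * x := by
  have hxx : C.q (x * x) = 1 := by
    obtain ⟨p, q, r, s, hF, e⟩ := hx
    obtain ⟨h1, h2, h3, h4, h5, h6⟩ := hF
    rw [map_mul, e]
    have hd : Perm.Disjoint (swap p q) (swap r s) := by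
      refine disjoint_iff_disjoint_support.2 ?_
      rw [support_swap h1, support_swap h6]
      simp [h2, h3, h4, h5, h2.symm, h3.symm, h4.symm, h5.symm]
    rw [hd.commute.symm.mul_mul_mul_comm, swap_mul_self, swap_mul_self, one_mul]
  obtain ⟨h, hs, hh⟩ := isDT_conj hx hy
  obtain ⟨a, rfl⟩ := C.surj h hs
  rw [← C.sq_congr (show C.q (a * x * a⁻¹) = C.q y by simpa using hh)]
  calc a * x * a⁻¹ * (a * x * a⁻¹) = a * (x * x) * a⁻¹ := by group
    _ = x * x := by
      rcases C.ker _ hxx with e | e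
      · rw [e]; simp
      · rw [e, ← (C.z_comm a).eq, mul_inv_cancel_right]

variable [Finite G]

/-- Double transpositions lift to elements squaring to `z`. -/
theorem dt_sq (hperf : commutator G = ⊤) (hn : 5 ≤ n) {x : G} (hx : IsDT (C.q x)) :
    x * x = C.z := by
  have hxx : C.q (x * x) = 1 := by
    obtain ⟨p, q, r, s, hF, e⟩ := hx
    rw [map_mul, e]
    obtain ⟨h1, h2, h3, h4, h5, h6⟩ := hF
    have hd : Perm.Disjoint (swap p q) (swap r s) := by
      refine disjoint_iff_disjoint_support.2 ?_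
      rw [support_swap h1, support_swap h6]
      simp [h2, h3, h4, h5, h2.symm, h3.symm, h4.symm, h5.symm]
    rw [hd.commute.symm.mul_mul_mul_comm, swap_mul_self, swap_mul_self, one_mul]
  rcases C.ker _ hxx with h1 | h1
  swap
  · exact h1
  exfalso
  have hall : ∀ y, IsDT (C.q y) → y * y = 1 := fun y hy => (C.sq_DT hx hy).trans h1
  obtain ⟨k, rfl⟩ : ∃ k, n = k + 3 := ⟨n - 3, by omega⟩
  -- lifts of the generators
  have hlift0 : ∀ i : Fin (k + 1), ∃ y, C.q y = moore k i ∧
      (i.val = 0 → y ^ 3 = 1) ∧ (1 ≤ i.val → y ^ 2 = 1) := by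
    intro i
    obtain ⟨y, hy⟩ := C.surj _ (moore_sign k i)
    by_cases hi : i.val = 0
    · have h3 : C.q (y ^ 3) = 1 := by rw [map_pow, hy, moore_zero k hi]
      rcases C.ker _ h3 with e | e
      · exact ⟨y, hy, fun _ => e, fun h => by omega⟩
      · refine ⟨C.z * y, by rw [map_mul, C.q_z, one_mul, hy], fun _ => ?_, fun h => by omega⟩
        rw [(C.z_comm y).mul_pow, e, ← pow_succ, show 3 + 1 = 2 * 2 from rfl, pow_mul, pow_two C.z,
          C.z_sq, one_pow]
    · exact ⟨y, hy, fun h => absurd h hi, fun _ => by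
        rw [pow_two]; exact hall y (hy ▸ moore_isDT k (by omega))⟩
  choose g hg hg3 hg2 using hlift0
  -- fix the signs along the chain
  have hchain : ∀ m, ∃ f : Fin (k + 1) → G, (∀ i, C.q (f i) = moore k i) ∧
      (∀ i, i.val = 0 → f i ^ 3 = 1) ∧ (∀ i, 1 ≤ i.val → f i ^ 2 = 1) ∧
      ∀ i j : Fin (k + 1), j.val = i.val + 1 → j.val ≤ m → (f i * f j) ^ 3 = 1 := by
    intro m
    induction m with
    | zero => exact ⟨g, hg, hg3, hg2, fun i j hij hjm => by omega⟩
    | succ m ih =>
      obtain ⟨f, f1, f2, f3, f4⟩ := ih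
      by_cases hm : m + 1 < k + 1
      · set j₀ : Fin (k + 1) := ⟨m + 1, hm⟩
        set i₀ : Fin (k + 1) := ⟨m, by omega⟩
        have h3 : C.q ((f i₀ * f j₀) ^ 3) = 1 := by
          rw [map_pow, map_mul, f1, f1, moore_adj k rfl]
        rcases C.ker _ h3 with e | e
        · refine ⟨f, f1, f2, f3, fun i j hij hjm => ?_⟩
          rcases Nat.lt_or_ge j.val (m + 1) with hlt | hge
          · exact f4 i j hij (by omega)
          · rw [show j = j₀ from Fin.ext (by simp [j₀]; omega),
              show i = i₀ from Fin.ext (by simp [i₀]; omega)]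
            exact e
        · refine ⟨Function.update f j₀ (C.z * f j₀), fun i => ?_, fun i hi => ?_, fun i hi => ?_,
            fun i j hij hjm => ?_⟩
          · by_cases h : i = j₀
            · subst h; rw [Function.update_self, map_mul, C.q_z, one_mul, f1]
            · rw [Function.update_of_ne h]; exact f1 i
          · rw [Function.update_of_ne (Fin.ne_of_val_ne (by simp [j₀]; omega))]
            exact f2 i hi
          · by_cases h : i = j₀
            · subst h
              rw [Function.update_self, (C.z_comm _).mul_pow, f3 _ hi, pow_two, C.z_sq, one_mul]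
            · rw [Function.update_of_ne h]; exact f3 i hi
          · rw [Function.update_of_ne (a := i) (Fin.ne_of_val_ne (by simp [j₀]; omega))]
            rcases Nat.lt_or_ge j.val (m + 1) with hlt | hge
            · rw [Function.update_of_ne (Fin.ne_of_val_ne (by simp [j₀]; omega))]
              exact f4 i j hij (by omega)
            · rw [show j = j₀ from Fin.ext (by simp [j₀]; omega), Function.update_self,
                show i = i₀ from Fin.ext (by simp [i₀]; omega), ← mul_assoc,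
                ← (C.z_comm (f i₀)).eq, mul_assoc, (C.z_comm _).mul_pow, e, ← pow_succ,
                show 3 + 1 = 2 * 2 from rfl, pow_mul, pow_two C.z, C.z_sq, one_pow]
      · exact ⟨f, f1, f2, f3, fun i j hij _ => f4 i j hij (by omega)⟩
  obtain ⟨f, f1, f2, f3, f4⟩ := hchain k
  let s : S3335.P (k + 1) →* G := PresentedGroup.toGroup
    (S3335.lift_rels f f2 f3 (fun i j hij => f4 i j hij (by omega))
      (fun i j hij => by
        rw [pow_two]
        exact hall _ (by rw [map_mul, f1, f1]; exact moore_far k hij)))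
  obtain ⟨Φ⟩ : Nonempty (S3335.P (k + 1) ≃* alternatingGroup (Fin (k + 3))) := S3335.main k
  let φ : alternatingGroup (Fin (k + 3)) →* alternatingGroup (Fin (k + 3)) :=
    ((C.q.comp s).codRestrict _ fun x => mem_alternatingGroup.2 (C.sign_q _)).comp
      Φ.symm.toMonoidHom
  haveI : IsSimpleGroup (alternatingGroup (Fin (k + 3))) :=
    alternatingGroup.isSimpleGroup (by simpa using hn)
  have hφ : Function.Bijective φ := by
    refine Finite.injective_iff_bijective.1 ?_
    rw [← MonoidHom.ker_eq_bot_iff]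
    refine (φ.normal_ker.eq_bot_or_eq_top).resolve_right fun htop => ?_
    set i₀ : Fin (k + 1) := ⟨0, by omega⟩
    have h := MonoidHom.mem_ker.1 (htop.symm ▸ Subgroup.mem_top (Φ (PresentedGroup.of i₀)))
    have h' : C.q (s (Φ.symm (Φ (PresentedGroup.of i₀)))) = 1 := congrArg Subtype.val h
    rw [MulEquiv.symm_apply_apply, PresentedGroup.toGroup.of, f1, moore, if_pos rfl] at h'
    have := congrArg (fun u : Perm (Fin (k + 3)) => u ⟨2, by omega⟩) h'
    simp [swap_apply_def, Fin.ext_iff] at this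
  let S : Subgroup G := s.range
  have hdec : ∀ x : G, ∃ a ∈ S, x = a ∨ x = C.z * a := by
    intro x
    obtain ⟨a, ha⟩ := hφ.2 ⟨C.q x, mem_alternatingGroup.2 (C.sign_q x)⟩
    have ha' : C.q (s (Φ.symm a)) = C.q x := congrArg Subtype.val ha
    exact ⟨_, ⟨_, rfl⟩, C.eq_or ha'.symm⟩
  have hle : commutator G ≤ S := by
    rw [commutator_def, Subgroup.commutator_le]
    intro x _ y _
    obtain ⟨a, ha, hxa⟩ := hdec x
    obtain ⟨b, hb, hyb⟩ := hdec y
    have cz : ∀ {u v : G}, Commute C.z u → ⁅C.z * u, v⁆ = ⁅u, v⁆ := by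
      intro u v hu
      rw [commutatorElement_def, commutatorElement_def, mul_inv_rev]
      calc C.z * u * v * (u⁻¹ * C.z⁻¹) * v⁻¹ = C.z * (u * v * u⁻¹) * C.z⁻¹ * v⁻¹ := by group
        _ = u * v * u⁻¹ * v⁻¹ := by rw [(C.z_comm _).eq, mul_inv_cancel_right]
    have hm : ⁅a, b⁆ ∈ S := by
      rw [commutatorElement_def]
      exact mul_mem (mul_mem (mul_mem ha hb) (inv_mem ha)) (inv_mem hb)
    have hm' : ⁅b, a⁆ ∈ S := commutatorElement_inv a b ▸ inv_mem hm
    rcases hxa with rfl | rfl <;> rcases hyb with rfl | rfl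
    · exact hm
    · rw [← commutatorElement_inv, cz (C.z_comm _), commutatorElement_inv]; exact hm
    · rw [cz (C.z_comm _)]; exact hm
    · rw [cz (C.z_comm _), ← commutatorElement_inv, cz (C.z_comm _), commutatorElement_inv]
      exact hm
  obtain ⟨p, hp⟩ := hle (hperf ▸ Subgroup.mem_top C.z)
  have h1' : φ (Φ p) = φ 1 := by
    rw [map_one]
    refine Subtype.ext ?_
    show C.q (s (Φ.symm (Φ p))) = 1
    rw [MulEquiv.symm_apply_apply, hp, C.q_z]
  have hp1 : p = 1 := Φ.injective (by rw [map_one]; exact hφ.1 h1')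
  rw [hp1, map_one] at hp
  exact C.z_ne hp.symm

/-- Every element is a commutator. -/
theorem all_commutators (C : Cover n G) (hperf : commutator G = ⊤) (hn : 5 ≤ n) (g : G) :
    ∃ a b : G, a * b * a⁻¹ * b⁻¹ = g := by
  obtain ⟨a₀, b₀, ha₀, hb₀s, ⟨p, q, r, s, hF, h1, h2, h3, h4⟩, hab⟩ :=
    exists_partner (by simpa using hn) (C.q g) (C.sign_q g)
  obtain ⟨R₀, hb₀, r1, r2, r3, r4⟩ := split_pairs hF h1 h2 h3 h4
  obtain ⟨x₀, y₀, hx₀, hy₀, hxy, hRc⟩ := klein_commutator hF
  obtain ⟨hRx, hRy⟩ := hRc R₀ r1 r2 r3 r4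
  have hF2 : Four p r q s := ⟨hF.2.1, hF.1, hF.2.2.1, hF.2.2.2.1.symm, hF.2.2.2.2.2, hF.2.2.2.2.1⟩
  have hF3 : Four p s q r :=
    ⟨hF.2.2.1, hF.1, hF.2.1, hF.2.2.2.2.1.symm, hF.2.2.2.2.2.symm, hF.2.2.2.1⟩
  have hd₀ : IsDT (swap p q * swap r s) := ⟨p, q, r, s, hF, rfl⟩
  obtain ⟨a, ha⟩ := C.surj a₀ ha₀
  obtain ⟨d, hd⟩ := C.surj _ (sign_four hF)
  obtain ⟨R, hR⟩ := C.surj R₀ (by
    rw [hb₀, map_mul, sign_four hF, one_mul] at hb₀s
    exact hb₀s)
  obtain ⟨x, hx⟩ := C.surj x₀ hx₀
  obtain ⟨y, hy⟩ := C.surj y₀ hy₀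
  obtain ⟨c, hc⟩ : ∃ c, c = x * y * x⁻¹ * y⁻¹ := ⟨_, rfl⟩
  have hcq : C.q c = swap p r * swap q s := by simp [hc, hx, hy, hxy]
  -- `c` commutes with `R`
  have hcR : c * R = R * c := by
    have hxR : C.q (x * R) = C.q (R * x) := by rw [map_mul, map_mul, hx, hR, hRx.eq]
    have hyR : C.q (y * R) = C.q (R * y) := by rw [map_mul, map_mul, hy, hR, hRy.eq]
    have key : ∀ u : G, C.q (u * R) = C.q (R * u) →
        ∃ ε : G, (∀ v, Commute ε v) ∧ ε * ε = 1 ∧ u * R * u⁻¹ = ε * R := by
      intro u hu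
      rcases C.eq_or hu with e | e
      · exact ⟨1, fun v => Commute.one_left v, one_mul 1, by rw [one_mul, e, mul_inv_cancel_right]⟩
      · exact ⟨C.z, C.z_comm, C.z_sq, by rw [e, ← mul_assoc, mul_inv_cancel_right]⟩
    obtain ⟨ε, hεc, hε2, hεR⟩ := key x hxR
    obtain ⟨δ, hδc, hδ2, hδR⟩ := key y hyR
    have inv_key : ∀ {u ε : G}, (∀ v, Commute ε v) → ε * ε = 1 → u * R * u⁻¹ = ε * R →
        u⁻¹ * R * u = ε * R := by
      intro u ε hc h2 h
      calc u⁻¹ * R * u = u⁻¹ * (ε * (ε * R)) * u := by rw [← mul_assoc ε, h2, one_mul]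
        _ = u⁻¹ * (ε * (u * R * u⁻¹)) * u := by rw [h]
        _ = u⁻¹ * (ε * u) * R := by group
        _ = ε * R := by rw [(hc u).eq, inv_mul_cancel_left]
    have hxi := inv_key hεc hε2 hεR
    have hyi := inv_key hδc hδ2 hδR
    have hconj : c * R * c⁻¹ = R := by
      have step : ∀ (u w : G) {ε : G}, (∀ v, Commute ε v) → u * (ε * w) * u⁻¹ = ε * (u * w * u⁻¹) := by
        intro u w ε hc
        rw [← mul_assoc u, ← (hc u).eq]; group
      calc c * R * c⁻¹ = x * (y * (x⁻¹ * (y⁻¹ * R * y) * x) * y⁻¹) * x⁻¹ := by rw [hc]; group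
        _ = x * (y * (x⁻¹ * (δ * R) * x⁻¹⁻¹) * y⁻¹) * x⁻¹ := by rw [hyi, inv_inv]
        _ = x * (y * (δ * (ε * R)) * y⁻¹) * x⁻¹ := by rw [step _ _ hδc, inv_inv, hxi]
        _ = x * (δ * (ε * (δ * R))) * x⁻¹ := by rw [step _ _ hδc, step _ _ hεc, hδR]
        _ = δ * (ε * (δ * (ε * R))) := by rw [step _ _ hδc, step _ _ hεc, step _ _ hδc, hεR]
        _ = R := by
          rw [← mul_assoc ε δ, ← (hδc ε).eq, mul_assoc δ ε, ← mul_assoc δ δ, hδ2, one_mul,
            ← mul_assoc, hε2, one_mul]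
    exact mul_inv_eq_iff_eq_mul.1 hconj
  -- `c` and `d` anticommute
  have hcd : c * d = C.z * (d * c) := by
    have hmap : C.q (c * d) = C.q (d * c) := by
      have e1 : C.q (c * d) = swap p s * swap q r := by rw [map_mul, hcq, hd, klein_mul hF]
      have hdt : IsDT (C.q (c * d)) := ⟨p, s, q, r, hF3, e1⟩
      have h2 := C.dt_sq hperf hn hdt
      have e2 : C.q (c * d) * C.q (c * d) = 1 := by rw [← map_mul, h2, C.q_z]
      have e3 : C.q c * C.q c = 1 := by
        rw [← map_mul, C.dt_sq hperf hn ⟨p, r, q, s, hF2, hcq⟩, C.q_z]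
      have e4 : C.q d * C.q d = 1 := by
        rw [← map_mul, C.dt_sq hperf hn (hd ▸ hd₀), C.q_z]
      rw [map_mul] at e2
      rw [map_mul, map_mul]
      calc C.q c * C.q d = (C.q c * C.q d)⁻¹ := (inv_eq_of_mul_eq_one_right e2).symm
        _ = C.q d * C.q c := by
          rw [mul_inv_rev, inv_eq_of_mul_eq_one_right e3, inv_eq_of_mul_eq_one_right e4]
    rcases C.eq_or hmap with e | e
    · exfalso
      have hsq : c * d * (c * d) = C.z :=
        C.dt_sq hperf hn ⟨p, s, q, r, hF3, by rw [map_mul, hcq, hd, klein_mul hF]⟩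
      rw [(show Commute c d from e).symm.mul_mul_mul_comm,
        C.dt_sq (x := c) hperf hn ⟨p, r, q, s, hF2, hcq⟩, C.dt_sq (x := d) hperf hn (hd ▸ hd₀), C.z_sq] at hsq
      exact C.z_ne hsq.symm
    · exact e
  set b := d * R with hb
  have hcb : c * b = C.z * (b * c) := by
    rw [hb, ← mul_assoc, hcd, mul_assoc, mul_assoc, hcR]; group
  rcases C.eq_or (show C.q g = C.q (a * b * a⁻¹ * b⁻¹) by
      rw [hb, map_mul, map_mul, map_mul, map_inv, map_inv, map_mul, ha, hd, hR, ← hb₀, hab])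
    with e | e
  · exact ⟨a, b, e.symm⟩
  · refine ⟨a * c, b, ?_⟩
    calc a * c * b * (a * c)⁻¹ * b⁻¹ = a * (c * b) * c⁻¹ * a⁻¹ * b⁻¹ := by group
      _ = a * C.z * (b * a⁻¹ * b⁻¹) := by rw [hcb]; group
      _ = g := by rw [← (C.z_comm a).eq, e]; group

end Cover

end Cfsg.Agent.Alt57.CoverComm
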