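import Mathlib.GroupTheory.Perm.Cycle.Type
import Mathlib.GroupTheory.Perm.ViaEmbedding
import Mathlib.GroupTheory.SpecificGroups.Alternating
import Mathlib.Data.ZMod.Basic

/-!
# Even permutations as commutators with a partner containing two transpositions

Every even permutation `σ` of at least five letters has an even permutation `b` containing two
2-cycles such that `σ * b` and `b` are conjugate under an even permutation.
-/

set_option autoImplicit false

namespace Cfsg.Agent.Alt57.CoverComm

open Equiv Equiv.Perm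

variable {α : Type*} [Fintype α] [DecidableEq α]

omit [Fintype α] in
theorem apply_apply {Q : Perm α} (hQ : Q * Q = 1) (x : α) : Q (Q x) = x := by
  have := congrArg (fun u : Perm α => u x) hQ
  simpa using this

theorem invol_type {Q : Perm α} (hQ : Q * Q = 1) :
    Q.cycleType = Multiset.replicate Q.cycleType.card 2 := by
  refine Multiset.eq_replicate.2 ⟨rfl, fun n hn => le_antisymm ?_ (two_le_of_mem_cycleType hn)⟩
  have h1 := dvd_of_mem_cycleType hn
  have h2 : orderOf Q ∣ 2 := orderOf_dvd_of_pow_eq_one (by rw [pow_two]; exact hQ)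
  exact Nat.le_of_dvd two_pos (h1.trans h2)

theorem invol_card {Q : Perm α} (hQ : Q * Q = 1) : Q.support.card = 2 * Q.cycleType.card := by
  rw [← sum_cycleType]
  conv_lhs => rw [invol_type hQ]
  rw [Multiset.sum_replicate, smul_eq_mul, mul_comm]

theorem invol_sign {Q : Perm α} (hQ : Q * Q = 1) :
    sign Q = (-1) ^ Q.cycleType.card := by
  rw [sign_of_cycleType, sum_cycleType, invol_card hQ, pow_add, pow_mul]
  simp

theorem invol_isConj {P Q : Perm α} (hP : P * P = 1) (hQ : Q * Q = 1)
    (h : P.support.card = Q.support.card) : IsConj P Q := by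
  rw [isConj_iff_cycleType_eq, invol_type hP, invol_type hQ]
  rw [invol_card hP, invol_card hQ] at h
  rw [show P.cycleType.card = Q.cycleType.card by omega]

/-! ### Involution factorisation -/

/-- The two reflections multiplying to a rotation of `ZMod m`. -/
theorem reflection_counts (m : ℕ) [NeZero m] (hm : 2 ≤ m) :
    let P : Perm (ZMod m) := Equiv.subLeft 1
    let Q : Perm (ZMod m) := Equiv.subLeft 0
    P * Q = Equiv.addRight (1 : ZMod m) ∧ P * P = 1 ∧ Q * Q = 1 ∧
      P.support.card = Q.support.card + (if Odd m then 0 else 2) ∧ P 0 ≠ 0 ∧ Q 0 = 0 := by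
  intro P Q
  haveI : Fact (1 < m) := ⟨hm⟩
  refine ⟨?_, ?_, ?_, ?_, ?_, ?_⟩
  · ext x; simp [P, Q, add_comm]
  · ext x; simp [P]
  · ext x; simp [Q]
  · have hsupp : ∀ k : ZMod m, Perm.support (Equiv.subLeft k : Perm (ZMod m)) =
        (Finset.univ.filter fun i : ZMod m => i + i = k)ᶜ := by
      intro k; ext i
      simp only [mem_support, Finset.mem_compl, Finset.mem_filter, Finset.mem_univ, true_and,
        Equiv.subLeft_apply, ne_eq, sub_eq_iff_eq_add]
      exact ⟨fun h e => h e.symm, fun h e => h e.symm⟩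
    show (Perm.support (Equiv.subLeft (1 : ZMod m) : Perm (ZMod m))).card =
      (Perm.support (Equiv.subLeft (0 : ZMod m) : Perm (ZMod m))).card + _
    rw [hsupp, hsupp, Finset.card_compl, Finset.card_compl, ZMod.card]
    by_cases ho : Odd m
    · rw [if_pos ho, add_zero]
      obtain ⟨u, hu⟩ : IsUnit ((2 : ℕ) : ZMod m) := by
        rw [ZMod.isUnit_iff_coprime]
        exact (Nat.prime_two.coprime_iff_not_dvd).2 (by
          intro h; exact (Nat.not_even_iff_odd.2 ho) (even_iff_two_dvd.2 h))
      have key : ∀ k : ZMod m, (Finset.univ.filter fun i : ZMod m => i + i = k) = {u⁻¹.1 * k} := by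
        intro k; ext i
        simp only [Finset.mem_filter, Finset.mem_univ, true_and, Finset.mem_singleton]
        have hu' : (u : ZMod m) * i = i + i := by rw [hu]; push_cast; ring
        constructor
        · intro h; rw [← h, ← hu', ← mul_assoc, Units.inv_mul, one_mul]
        · rintro rfl; rw [← hu', ← mul_assoc, Units.mul_inv, one_mul]
      rw [key, key, Finset.card_singleton, Finset.card_singleton]
    · rw [if_neg ho]
      obtain ⟨r, hr⟩ := (Nat.not_odd_iff_even.1 ho)
      have h1 : (Finset.univ.filter fun i : ZMod m => i + i = 1) = ∅ := by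
        refine Finset.filter_eq_empty_iff.2 fun i _ h => ?_
        have := congrArg (ZMod.castHom (show 2 ∣ m from ⟨r, by omega⟩) (ZMod 2)) h
        rw [map_add, map_one] at this
        revert this
        generalize (ZMod.castHom (show 2 ∣ m from ⟨r, by omega⟩) (ZMod 2)) i = j
        revert j
        decide
      have h0 : (Finset.univ.filter fun i : ZMod m => i + i = 0) = {0, (r : ZMod m)} := by
        ext i
        simp only [Finset.mem_filter, Finset.mem_univ, true_and, Finset.mem_insert,
          Finset.mem_singleton]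
        constructor
        · intro h
          have h2 : m ∣ i.val + i.val := by
            rw [← ZMod.natCast_eq_zero_iff]
            simpa using h
          have h3 := ZMod.val_lt i
          obtain ⟨c, hc⟩ := h2
          have hc2 : c < 2 := by
            by_contra hc2
            have : m * 2 ≤ m * c := Nat.mul_le_mul_left m (by omega)
            omega
          interval_cases c
          · left
            exact (ZMod.val_eq_zero i).1 (by omega)
          · right
            rw [← ZMod.natCast_zmod_val i]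
            congr 1; omega
        · rintro (rfl | rfl)
          · simp
          · rw [← Nat.cast_add, ← hr, ZMod.natCast_self]
      have hne : (0 : ZMod m) ≠ (r : ZMod m) := by
        intro h
        have := (ZMod.natCast_eq_zero_iff r m).1 h.symm
        have := Nat.le_of_dvd (by omega) this
        omega
      rw [h1, h0, Finset.card_empty, Finset.card_pair hne]
      omega
  · simp [P]
  · simp [Q]

/-- `σ` is a product of two involutions with controlled supports. -/
theorem exists_invol_factor (σ : Perm α) :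
    ∃ P Q : Perm α, σ = P * Q ∧ P * P = 1 ∧ Q * Q = 1 ∧ P.support ⊆ σ.support ∧
      Q.support ⊆ σ.support ∧ P.support.card = Q.support.card + (if sign σ = 1 then 0 else 2) ∧
      (σ ≠ 1 → P.support ≠ Q.support) := by
  induction σ using cycle_induction_on with
  | base_one => exact ⟨1, 1, by simp, by simp, by simp, by simp, by simp, by simp, by simp⟩
  | base_cycles σ hσ =>
    classical
    set m := σ.support.card with hm
    have hm2 : 2 ≤ m := hσ.two_le_card_support
    haveI : NeZero m := ⟨by omega⟩
    obtain ⟨x, hx⟩ : σ.support.Nonempty := by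
      rw [← Finset.card_pos]; omega
    have hx' : σ x ≠ x := mem_support.1 hx
    have hord : orderOf σ = m := hσ.orderOf
    let g : ZMod m → {a // a ∈ σ.support} := fun i =>
      ⟨(σ ^ i.val) x, pow_apply_mem_support.2 hx⟩
    have hinj : Function.Injective g := by
      intro i j h
      have h' : (σ ^ i.val) x = (σ ^ j.val) x := congrArg Subtype.val h
      have hco : σ.IsCycleOn (σ.support : Set α) := by
        rw [coe_support_eq_set_support]
        exact hσ.isCycleOn
      have h3 := (hco.pow_apply_eq_pow_apply hx).1 h'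
      rw [Nat.ModEq, Nat.mod_eq_of_lt (ZMod.val_lt i), Nat.mod_eq_of_lt (ZMod.val_lt j)] at h3
      exact ZMod.val_injective m h3
    have hbij : Function.Bijective g :=
      (Fintype.bijective_iff_injective_and_card g).2 ⟨hinj, by
        rw [ZMod.card, Fintype.card_coe]⟩
    let e : ZMod m ≃ {a // a ∈ σ.support} := Equiv.ofBijective g hbij
    have hext : (Equiv.addRight (1 : ZMod m) : Perm (ZMod m)).extendDomain e = σ := by
      refine Equiv.ext fun y => ?_
      by_cases hy : y ∈ σ.support
      · obtain ⟨i, hi⟩ := hbij.2 ⟨y, hy⟩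
        have hy' : y = (e i : α) := by
          show y = (g i : α)
          rw [hi]
        rw [hy', extendDomain_apply_image]
        show (σ ^ (i + 1).val) x = σ ((σ ^ i.val) x)
        rw [← mul_apply, ← pow_succ']
        refine congrArg (fun u : Perm α => u x) ((pow_eq_pow_iff_modEq).2 ?_)
        rw [hord, ← ZMod.natCast_eq_natCast_iff]
        simp
      · rw [extendDomain_apply_not_subtype _ _ hy]
        exact (notMem_support.1 hy).symm
    obtain ⟨h1, h2, h3, h4, h5, h6⟩ := reflection_counts m hm2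
    set P : Perm (ZMod m) := Equiv.subLeft 1
    set Q : Perm (ZMod m) := Equiv.subLeft 0
    have hsub : ∀ R : Perm (ZMod m), (R.extendDomain e).support ⊆ σ.support := by
      intro R y hy
      by_contra h
      exact mem_support.1 hy (extendDomain_apply_not_subtype _ _ h)
    refine ⟨P.extendDomain e, Q.extendDomain e, ?_, ?_, ?_, hsub P, hsub Q, ?_, fun _ he => ?_⟩
    · rw [extendDomain_mul, h1, hext]
    · rw [extendDomain_mul, h2, extendDomain_one]
    · rw [extendDomain_mul, h3, extendDomain_one]
    · rw [card_support_extend_domain, card_support_extend_domain, h4]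
      congr 1
      have hs : sign σ = -(-1) ^ m := hσ.sign
      rcases Nat.even_or_odd m with hev | hod
      · rw [if_neg (Nat.not_odd_iff_even.2 hev), if_neg]
        rw [hs, hev.neg_one_pow]; decide
      · rw [if_pos hod, if_pos]
        rw [hs, hod.neg_one_pow, neg_neg]
    · have hin : (e 0 : α) ∈ (P.extendDomain e).support := by
        rw [mem_support, extendDomain_apply_image]
        exact fun h => h5 (e.injective (Subtype.ext h))
      rw [he, mem_support, extendDomain_apply_image, h6] at hin
      exact hin rfl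
  | induction_disjoint σ τ hd _ ihσ ihτ =>
    obtain ⟨P₁, Q₁, e₁, p₁, q₁, sp₁, sq₁, c₁, n₁⟩ := ihσ
    obtain ⟨P₀, Q₀, e₀, p₀, q₀, sp₀, sq₀, c₀, n₀⟩ := ihτ
    have hset := disjoint_iff_disjoint_support.1 hd
    have main : ∀ P₂ Q₂ : Perm α, τ = P₂ * Q₂ → P₂ * P₂ = 1 → Q₂ * Q₂ = 1 →
        P₂.support ⊆ τ.support → Q₂.support ⊆ τ.support →
        (P₁ * P₂).support.card = (Q₁ * Q₂).support.card + (if sign (σ * τ) = 1 then 0 else 2) ∨
        P₁.support.card + P₂.support.card =
          Q₁.support.card + Q₂.support.card + (if sign (σ * τ) = 1 then 0 else 2) →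
        (τ ≠ 1 → P₂.support ≠ Q₂.support) →
        ∃ P Q : Perm α, σ * τ = P * Q ∧ P * P = 1 ∧ Q * Q = 1 ∧ P.support ⊆ (σ * τ).support ∧
          Q.support ⊆ (σ * τ).support ∧
          P.support.card = Q.support.card + (if sign (σ * τ) = 1 then 0 else 2) ∧
          (σ * τ ≠ 1 → P.support ≠ Q.support) := by
      intro P₂ Q₂ e₂ p₂ q₂ sp₂ sq₂ c₂ n₂
      have dPP : Perm.Disjoint P₁ P₂ :=
        disjoint_iff_disjoint_support.2 (hset.mono sp₁ sp₂)
      have dQQ : Perm.Disjoint Q₁ Q₂ :=
        disjoint_iff_disjoint_support.2 (hset.mono sq₁ sq₂)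
      have dQP : Perm.Disjoint Q₁ P₂ :=
        disjoint_iff_disjoint_support.2 (hset.mono sq₁ sp₂)
      have sst : (σ * τ).support = σ.support ∪ τ.support := hd.support_mul
      refine ⟨P₁ * P₂, Q₁ * Q₂, ?_, ?_, ?_, ?_, ?_, ?_, ?_⟩
      · rw [e₁, e₂]
        calc P₁ * Q₁ * (P₂ * Q₂) = P₁ * (Q₁ * P₂) * Q₂ := by group
          _ = P₁ * (P₂ * Q₁) * Q₂ := by rw [dQP.commute.eq]
          _ = _ := by group
      · rw [dPP.commute.symm.mul_mul_mul_comm, p₁, p₂, one_mul]
      · rw [dQQ.commute.symm.mul_mul_mul_comm, q₁, q₂, one_mul]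
      · rw [dPP.support_mul, sst]; exact Finset.union_subset_union sp₁ sp₂
      · rw [dQQ.support_mul, sst]; exact Finset.union_subset_union sq₁ sq₂
      · rcases c₂ with c₂ | c₂
        · exact c₂
        · rw [dPP.card_support_mul, dQQ.card_support_mul]; exact c₂
      · intro hne he
        rw [dPP.support_mul, dQQ.support_mul] at he
        by_cases hσ1 : σ = 1
        · have hτ1 : τ ≠ 1 := by rintro rfl; exact hne (by rw [hσ1, one_mul])
          refine n₂ hτ1 ?_
          have a1 : P₁.support = ∅ := Finset.subset_empty.1 (sp₁.trans (by rw [hσ1, support_one]))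
          have a2 : Q₁.support = ∅ := Finset.subset_empty.1 (sq₁.trans (by rw [hσ1, support_one]))
          simpa [a1, a2] using he
        · refine n₁ hσ1 ?_
          ext y
          constructor
          · intro hy
            have hy' : y ∈ Q₁.support ∪ Q₂.support := he ▸ Finset.mem_union_left _ hy
            rcases Finset.mem_union.1 hy' with h | h
            · exact h
            · exact absurd (sq₂ h) (Finset.disjoint_left.1 hset (sp₁ hy))
          · intro hy
            have hy' : y ∈ P₁.support ∪ P₂.support := he.symm ▸ Finset.mem_union_left _ hy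
            rcases Finset.mem_union.1 hy' with h | h
            · exact h
            · exact absurd (sp₂ h) (Finset.disjoint_left.1 hset (sq₁ hy))
    rcases Int.units_eq_one_or (sign σ) with hs | hs
    · refine main P₀ Q₀ e₀ p₀ q₀ sp₀ sq₀ (Or.inr ?_) n₀
      rw [if_pos hs] at c₁
      rw [map_mul, hs, one_mul]
      omega
    · rcases Int.units_eq_one_or (sign τ) with ht | ht
      · refine main P₀ Q₀ e₀ p₀ q₀ sp₀ sq₀ (Or.inr ?_) n₀
        rw [if_pos ht] at c₀
        rw [map_mul, hs, ht, mul_one]
        rw [hs] at c₁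
        omega
      · -- both odd: exchange the roles of the two involutions on `τ`
        have hPinv : P₀⁻¹ = P₀ := inv_eq_of_mul_eq_one_right p₀
        have hconj : (P₀ * Q₀ * P₀⁻¹).support.card = Q₀.support.card := card_support_conj
        rw [hPinv] at hconj
        refine main (P₀ * Q₀ * P₀) P₀ ?_ ?_ p₀ ?_ sp₀ (Or.inr ?_) ?_
        · rw [e₀, mul_assoc _ P₀ P₀, p₀, mul_one]
        · calc P₀ * Q₀ * P₀ * (P₀ * Q₀ * P₀) = P₀ * Q₀ * (P₀ * P₀) * Q₀ * P₀ := by group
            _ = P₀ * (Q₀ * Q₀) * P₀ := by rw [p₀]; group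
            _ = 1 := by rw [q₀, mul_one, p₀]
        · intro y hy
          by_contra h
          refine mem_support.1 hy ?_
          have a1 : P₀ y = y := notMem_support.1 fun hh => h (sp₀ hh)
          have a2 : Q₀ y = y := notMem_support.1 fun hh => h (sq₀ hh)
          simp [a1, a2]
        · rw [hs, if_neg (by decide)] at c₁
          rw [ht, if_neg (by decide)] at c₀
          rw [map_mul, hs, ht, hconj, if_pos (by decide)]
          omega
        · intro hτ he
          rw [ht, if_neg (by decide)] at c₀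
          rw [he] at hconj
          omega

/-! ### The partner -/

/-- Four pairwise distinct points. -/
def Four (p q r s : α) : Prop := p ≠ q ∧ p ≠ r ∧ p ≠ s ∧ q ≠ r ∧ q ≠ s ∧ r ≠ s

/-- `b` has the two 2-cycles `(p q)` and `(r s)`. -/
def TwoPairs (b : Perm α) : Prop :=
  ∃ p q r s : α, Four p q r s ∧ b p = q ∧ b q = p ∧ b r = s ∧ b s = r

omit [Fintype α] in
theorem swap_conj (h : Perm α) (x y : α) : h * swap x y * h⁻¹ = swap (h x) (h y) :=
  (swap_apply_apply h x y).symm

/-- A conjugating element may be taken even. -/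
theorem even_conj {σ b : Perm α} (hb : TwoPairs b) (hc : IsConj b (σ * b)) :
    ∃ a : Perm α, sign a = 1 ∧ a * b * a⁻¹ = σ * b := by
  obtain ⟨p, q, r, s, hF, h1, h2, -, -⟩ := hb
  obtain ⟨h, hh⟩ := isConj_iff.1 hc
  rcases Int.units_eq_one_or (sign h) with hs | hs
  · exact ⟨h, hs, hh⟩
  · refine ⟨h * swap p q, ?_, ?_⟩
    · rw [map_mul, hs, sign_swap hF.1]; rfl
    · have hcm : swap p q * b * (swap p q)⁻¹ = b := by
        have := swap_conj b p q
        rw [h1, h2, swap_comm q p, mul_inv_eq_iff_eq_mul] at this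
        rw [mul_inv_eq_iff_eq_mul, this]
      rw [← hh]
      calc h * swap p q * b * (h * swap p q)⁻¹ = h * (swap p q * b * (swap p q)⁻¹) * h⁻¹ := by group
        _ = _ := by rw [hcm]

/-- Two involutions of equally many letters, twisted by a transposition, stay conjugate. -/
theorem twist_conj {P Q : Perm α} (hP : P * P = 1) (hQ : Q * Q = 1) (hc : IsConj P Q) {f g : α}
    (hfP : P f = f) (hfQ : Q f ≠ f) (hgQ : Q g = g) (hgP : P g ≠ g) :
    IsConj (P * swap f g) (Q * swap f g) := by
  obtain ⟨h₀, hh₀⟩ := isConj_iff.1 hc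
  have step : ∀ h k : Perm α, h * P * h⁻¹ = Q → k * Q * k⁻¹ = Q → (k * h) * P * (k * h)⁻¹ = Q := by
    intro h k e1 e2
    calc (k * h) * P * (k * h)⁻¹ = k * (h * P * h⁻¹) * k⁻¹ := by group
      _ = Q := by rw [e1, e2]
  have him : ∀ h : Perm α, h * P * h⁻¹ = Q → ∀ x, Q (h x) = h (P x) := by
    intro h e x; rw [← e]; simp
  -- `f` goes to `g`
  have hk₁ : swap (h₀ f) g * Q * (swap (h₀ f) g)⁻¹ = Q := by
    have := swap_conj Q (h₀ f) g
    rw [him h₀ hh₀ f, hfP, hgQ, mul_inv_eq_iff_eq_mul] at this
    rw [mul_inv_eq_iff_eq_mul, this]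
  have hh₁ := step _ _ hh₀ hk₁
  set h₁ := swap (h₀ f) g * h₀
  have h1f : h₁ f = g := by simp [h₁]
  -- `g` goes to `f`
  set u := h₁ g with hu
  have huQ : Q u ≠ u := by
    rw [hu, him h₁ hh₁ g]; exact fun e => hgP (h₁.injective e)
  obtain ⟨k, hk, hku, hkg⟩ : ∃ k : Perm α, k * Q * k⁻¹ = Q ∧ k u = f ∧ k g = g := by
    have hgu : g ≠ u := fun e => huQ (e ▸ hgQ)
    have hgf : g ≠ f := fun e => hgP (e ▸ hfP)
    by_cases huf : u = f
    · exact ⟨1, by simp, by simp [huf], by simp⟩
    by_cases hQu : Q u = f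
    · refine ⟨swap u f, ?_, swap_apply_left _ _, swap_apply_of_ne_of_ne hgu hgf⟩
      have := swap_conj Q u f
      rw [hQu, show Q f = u by rw [← hQu, apply_apply hQ], swap_comm f u,
        mul_inv_eq_iff_eq_mul] at this
      rw [mul_inv_eq_iff_eq_mul, this]
    · have hQuQf : Q u ≠ Q f := fun e => huf (Q.injective e)
      have hfQu : f ≠ Q u := fun e => hQu e.symm
      have hQfu : Q f ≠ u := fun e => hQu (by rw [← e, apply_apply hQ])
      have hdis : Perm.Disjoint (swap u f) (swap (Q u) (Q f)) := by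
        refine disjoint_iff_disjoint_support.2 ?_
        rw [support_swap huf, support_swap hQuQf]
        simp [huQ.symm, hfQ.symm, hfQu, hQfu.symm, Ne.symm]
      refine ⟨swap u f * swap (Q u) (Q f), ?_, ?_, ?_⟩
      · have h1 := swap_conj Q u f
        have h2 := swap_conj Q (Q u) (Q f)
        rw [apply_apply hQ, apply_apply hQ] at h2
        have : Q * (swap u f * swap (Q u) (Q f)) * Q⁻¹ = swap u f * swap (Q u) (Q f) := by
          rw [hdis.commute.eq]
          calc Q * (swap (Q u) (Q f) * swap u f) * Q⁻¹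
              = (Q * swap (Q u) (Q f) * Q⁻¹) * (Q * swap u f * Q⁻¹) := by group
            _ = swap (Q u) (Q f) * swap u f := by rw [h1, h2]; exact hdis.commute.eq
        rw [mul_inv_eq_iff_eq_mul] at this
        rw [mul_inv_eq_iff_eq_mul, this]
      · simp [swap_apply_of_ne_of_ne huQ.symm hQfu.symm]
      · have a1 : g ≠ Q u := fun e => hgu (Q.injective (hgQ.trans e))
        have a2 : g ≠ Q f := fun e => hgf (Q.injective (hgQ.trans e))
        simp [swap_apply_of_ne_of_ne a1 a2, swap_apply_of_ne_of_ne hgu hgf]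
  have hh₂ := step _ _ hh₁ hk
  refine isConj_iff.2 ⟨k * h₁, ?_⟩
  calc (k * h₁) * (P * swap f g) * (k * h₁)⁻¹
      = ((k * h₁) * P * (k * h₁)⁻¹) * ((k * h₁) * swap f g * (k * h₁)⁻¹) := by group
    _ = Q * swap f g := by
        rw [hh₂, swap_conj, show (k * h₁) f = g by rw [mul_apply k h₁, h1f, hkg],
          show (k * h₁) g = f by rw [mul_apply k h₁, ← hu, hku], swap_comm g f]

/-- Outside a small set there are two points left. -/
theorem exists_two_notMem (h5 : 5 ≤ Fintype.card α) (S : Finset α) (hS : S.card ≤ 3) :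
    ∃ u v : α, u ≠ v ∧ u ∉ S ∧ v ∉ S := by
  have : 1 < Sᶜ.card := by rw [Finset.card_compl]; omega
  obtain ⟨u, hu, v, hv, huv⟩ := Finset.one_lt_card.1 this
  exact ⟨u, v, huv, Finset.mem_compl.1 hu, Finset.mem_compl.1 hv⟩

omit [Fintype α] in
theorem four_apply {p q r s : α} (h : Four p q r s) :
    (swap p q * swap r s) p = q ∧ (swap p q * swap r s) q = p ∧
      (swap p q * swap r s) r = s ∧ (swap p q * swap r s) s = r := by
  obtain ⟨h1, h2, h3, h4, h5, h6⟩ := h
  simp [swap_apply_of_ne_of_ne, h1, h2, h3, h4, h5, h6, h2.symm, h3.symm, h4.symm, h5.symm]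

theorem type_two_two {p q r s : α} (h : Four p q r s) :
    (swap p q * swap r s).cycleType = {2, 2} := by
  obtain ⟨h1, h2, h3, h4, h5, h6⟩ := h
  have hd : Perm.Disjoint (swap p q) (swap r s) := by
    refine disjoint_iff_disjoint_support.2 ?_
    rw [support_swap h1, support_swap h6]
    simp [h2, h3, h4, h5, h2.symm, h3.symm, h4.symm, h5.symm]
  rw [hd.cycleType_mul, (swap_isSwap_iff.2 h1).isCycle.cycleType,
    (swap_isSwap_iff.2 h6).isCycle.cycleType, support_swap h1, support_swap h6,
    Finset.card_pair h1, Finset.card_pair h6]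
  rfl

theorem sign_four {p q r s : α} (h : Four p q r s) : sign (swap p q * swap r s) = 1 := by
  rw [map_mul, sign_swap h.1, sign_swap h.2.2.2.2.2]; rfl

/-- The partner `b` of an even permutation. -/
theorem exists_partner (h5 : 5 ≤ Fintype.card α) (σ : Perm α) (hσ : sign σ = 1) :
    ∃ a b : Perm α, sign a = 1 ∧ sign b = 1 ∧ TwoPairs b ∧ a * b * a⁻¹ * b⁻¹ = σ := by
  suffices h : ∃ b : Perm α, sign b = 1 ∧ TwoPairs b ∧ IsConj b (σ * b) by
    obtain ⟨b, hb, hp, hc⟩ := h
    obtain ⟨a, ha, hab⟩ := even_conj hp hc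
    exact ⟨a, b, ha, hb, hp, by rw [hab, mul_inv_cancel_right]⟩
  obtain ⟨P, Q, hPQ, hP, hQ, -, hQσ, hc, hne⟩ := exists_invol_factor σ
  rw [if_pos hσ, add_zero] at hc
  have hPQc : IsConj P Q := invol_isConj hP hQ hc
  have hσQ : σ * Q = P := by rw [hPQ, mul_assoc, hQ, mul_one]
  set T := Q.cycleType.card with hT
  have hcardQ := invol_card hQ
  have hsQ := invol_sign hQ
  rw [← hT] at hcardQ hsQ
  by_cases hev : Even T ∧ T ≠ 0
  · obtain ⟨hev, hT0⟩ := hev
    obtain ⟨p, hp⟩ : Q.support.Nonempty := by rw [← Finset.card_pos]; omega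
    have hp' := mem_support.1 hp
    obtain ⟨r, hr, hr'⟩ : ∃ r ∈ Q.support, r ∉ ({p, Q p} : Finset α) := by
      refine Finset.exists_mem_notMem_of_card_lt_card ?_
      have := Finset.card_le_two (a := p) (b := Q p)
      obtain ⟨k, hk⟩ := hev
      omega
    simp only [Finset.mem_insert, Finset.mem_singleton, not_or] at hr'
    refine ⟨Q, by rw [hsQ, hev.neg_one_pow], ⟨p, Q p, r, Q r, ⟨hp'.symm, Ne.symm hr'.1, ?_,
      Ne.symm hr'.2, ?_, (mem_support.1 hr).symm⟩, rfl, apply_apply hQ p, rfl, apply_apply hQ r⟩,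
      hσQ ▸ hPQc.symm⟩
    · intro e; exact hr'.2 (by rw [e, apply_apply hQ])
    · intro e; exact hr'.1 (Q.injective e).symm
  by_cases hT0 : T = 0
  · have hP1 : P = 1 := support_eq_empty_iff.1 (Finset.card_eq_zero.1 (by omega))
    have hQ1 : Q = 1 := support_eq_empty_iff.1 (Finset.card_eq_zero.1 (by omega))
    obtain ⟨p, q, hpq, -, -⟩ := exists_two_notMem h5 ∅ (by simp)
    obtain ⟨r, s, hrs, hr, hs⟩ := exists_two_notMem h5 {p, q}
      (Finset.card_le_two.trans (by omega))
    simp only [Finset.mem_insert, Finset.mem_singleton, not_or] at hr hs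
    have hF : Four p q r s := ⟨hpq, Ne.symm hr.1, Ne.symm hs.1, Ne.symm hr.2, Ne.symm hs.2, hrs⟩
    refine ⟨swap p q * swap r s, sign_four hF, ⟨p, q, r, s, hF, four_apply hF⟩, ?_⟩
    rw [hPQ, hP1, hQ1, one_mul, one_mul]
  have hodd : Odd T := Nat.not_even_iff_odd.1 fun h => hev ⟨h, hT0⟩
  by_cases hT1 : T = 1
  · obtain ⟨a, b, hab, hPs⟩ := card_support_eq_two.1 (show P.support.card = 2 by omega)
    obtain ⟨c, d, hcd, hQs⟩ := card_support_eq_two.1 (show Q.support.card = 2 by omega)
    by_cases hint : a ∈ ({c, d} : Finset α) ∨ b ∈ ({c, d} : Finset α)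
    · -- three letters: add a common transposition on two spare letters
      obtain ⟨u, v, huv, hu, hv⟩ := exists_two_notMem h5 ({a, b} ∪ {c, d}) (by
        have h4 : ({a, b} ∪ {c, d} : Finset α).card + ({a, b} ∩ {c, d} : Finset α).card =
            ({a, b} : Finset α).card + ({c, d} : Finset α).card := Finset.card_union_add_card_inter _ _
        have : 0 < ({a, b} ∩ {c, d} : Finset α).card := by
          rw [Finset.card_pos]
          rcases hint with h | h
          · exact ⟨a, Finset.mem_inter.2 ⟨by simp, h⟩⟩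
          · exact ⟨b, Finset.mem_inter.2 ⟨by simp, h⟩⟩
        rw [Finset.card_pair hab, Finset.card_pair hcd] at h4
        omega)
      simp only [Finset.mem_union, Finset.mem_insert, Finset.mem_singleton, not_or] at hu hv
      have hFa : Four a b u v :=
        ⟨hab, Ne.symm hu.1.1, Ne.symm hv.1.1, Ne.symm hu.1.2, Ne.symm hv.1.2, huv⟩
      have hFc : Four c d u v :=
        ⟨hcd, Ne.symm hu.2.1, Ne.symm hv.2.1, Ne.symm hu.2.2, Ne.symm hv.2.2, huv⟩
      refine ⟨swap c d * swap u v, sign_four hFc, ⟨c, d, u, v, hFc, four_apply hFc⟩, ?_⟩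
      have : σ * (swap c d * swap u v) = swap a b * swap u v := by
        rw [← hQs, ← hPs, ← mul_assoc, hσQ]
      rw [this, isConj_iff_cycleType_eq, type_two_two hFc, type_two_two hFa]
    · -- a double transposition
      simp only [Finset.mem_insert, Finset.mem_singleton, not_or] at hint
      obtain ⟨⟨hac, had⟩, hbc, hbd⟩ := hint
      have hF : Four a c b d := ⟨hac, hab, had, Ne.symm hbc, hcd, hbd⟩
      have hF' : Four a d b c := ⟨had, hab, hac, Ne.symm hbd, hcd.symm, hbc⟩
      refine ⟨swap a c * swap b d, sign_four hF, ⟨a, c, b, d, hF, four_apply hF⟩, ?_⟩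
      have : σ * (swap a c * swap b d) = swap a d * swap b c := by
        rw [hPQ, hPs, hQs]
        ext x
        by_cases x1 : x = a <;> by_cases x2 : x = b <;> by_cases x3 : x = c <;> by_cases x4 : x = d <;>
          simp_all [swap_apply_def, eq_comm]
      rw [this, isConj_iff_cycleType_eq, type_two_two hF, type_two_two hF']
  -- an odd number at least three: twist
  have hσ1 : σ ≠ 1 := by
    intro h1
    rw [h1, support_one, Finset.subset_empty] at hQσ
    rw [hQσ, Finset.card_empty] at hcardQ
    omega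
  have hdiff := hne hσ1
  obtain ⟨g, hgP, hgQ⟩ : ∃ g, g ∈ P.support ∧ g ∉ Q.support := Finset.not_subset.1 fun h =>
    hdiff (Finset.eq_of_subset_of_card_le h hc.ge)
  obtain ⟨f, hfQ, hfP⟩ : ∃ f, f ∈ Q.support ∧ f ∉ P.support := Finset.not_subset.1 fun h =>
    hdiff (Finset.eq_of_subset_of_card_le h hc.le).symm
  rw [mem_support] at hgP hfQ
  rw [notMem_support] at hgQ hfP
  have hfg : f ≠ g := fun e => hgP (e ▸ hfP)
  refine ⟨Q * swap f g, ?_, ?_, ?_⟩
  · rw [map_mul, hsQ, sign_swap hfg, hodd.neg_one_pow]; rfl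
  · obtain ⟨p, hp, hp'⟩ : ∃ p ∈ Q.support, p ∉ ({f, Q f} : Finset α) := by
      refine Finset.exists_mem_notMem_of_card_lt_card ?_
      have := Finset.card_le_two (a := f) (b := Q f)
      omega
    obtain ⟨r, hr, hr'⟩ : ∃ r ∈ Q.support, r ∉ ({f, Q f, p, Q p} : Finset α) := by
      refine Finset.exists_mem_notMem_of_card_lt_card ?_
      have := Finset.card_le_four (a := f) (b := Q f) (c := p) (d := Q p)
      obtain ⟨j, hj⟩ := hodd
      omega
    simp only [Finset.mem_insert, Finset.mem_singleton, not_or] at hp' hr'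
    have key : ∀ x, x ∈ Q.support → x ≠ f → x ≠ Q f →
        (Q * swap f g) x = Q x ∧ (Q * swap f g) (Q x) = x := by
      intro x hx a1 a2
      have b1 : x ≠ g := fun e => mem_support.1 hx (e ▸ hgQ)
      have c1 : Q x ≠ f := fun e => a2 (by rw [← e, apply_apply hQ])
      have c2 : Q x ≠ g := fun e => b1 (Q.injective (e.trans hgQ.symm))
      rw [mul_apply, mul_apply, swap_apply_of_ne_of_ne a1 b1, swap_apply_of_ne_of_ne c1 c2,
        apply_apply hQ]
      exact ⟨rfl, rfl⟩
    obtain ⟨k1, k2⟩ := key p hp hp'.1 hp'.2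
    obtain ⟨k3, k4⟩ := key r hr hr'.1 hr'.2.1
    refine ⟨p, Q p, r, Q r, ⟨(mem_support.1 hp).symm, Ne.symm hr'.2.2.1, ?_, Ne.symm hr'.2.2.2, ?_,
      (mem_support.1 hr).symm⟩, k1, k2, k3, k4⟩
    · intro e; exact hr'.2.2.2 (by rw [e, apply_apply hQ])
    · intro e; exact hr'.2.2.1 (Q.injective e).symm
  · rw [← mul_assoc, hσQ]
    exact (twist_conj hP hQ hPQc hfP hfQ hgQ hgP).symm

end Cfsg.Agent.Alt57.CoverComm
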