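import Mathlib.GroupTheory.SpecificGroups.Alternating
import Mathlib.GroupTheory.Perm.Cycle.Type
import Mathlib.GroupTheory.Perm.Centralizer
import Mathlib.Data.Nat.Prime.Basic

/-! Element orders of alternating groups in terms of cycle types. -/

set_option autoImplicit false

namespace Cfsg.Agent.Alt57

open Equiv Equiv.Perm

theorem mem_range_orderOf_iff (n m : ℕ) :
    m ∈ Set.range (orderOf : alternatingGroup (Fin n) → ℕ) ↔
      ∃ s : Multiset ℕ, (∀ a ∈ s, 2 ≤ a) ∧ s.sum ≤ n ∧ Even (s.sum + s.card) ∧ s.lcm = m := by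
  constructor
  · rintro ⟨g, rfl⟩
    refine ⟨(g : Perm (Fin n)).cycleType, fun a ha => two_le_of_mem_cycleType ha,
      le_trans (sum_cycleType_le _) (by simp), ?_, by rw [lcm_cycleType, Subgroup.orderOf_coe]⟩
    have h : Perm.sign (g : Perm (Fin n)) = 1 := Perm.mem_alternatingGroup.1 g.2
    rw [sign_of_cycleType] at h
    by_contra hodd
    rw [Nat.not_even_iff_odd] at hodd
    rw [hodd.neg_one_pow] at h
    exact absurd h (by decide)
  · rintro ⟨s, h2, hsum, heven, rfl⟩
    obtain ⟨g, hg⟩ := (exists_with_cycleType_iff (α := Fin n)).2 ⟨by simpa using hsum, h2⟩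
    have hmem : g ∈ alternatingGroup (Fin n) := by
      rw [Perm.mem_alternatingGroup, sign_of_cycleType, hg]
      exact heven.neg_one_pow
    exact ⟨⟨g, hmem⟩, by rw [← Subgroup.orderOf_coe, ← lcm_cycleType, hg]⟩

theorem exists_dvd_of_prime_dvd_lcm {s : Multiset ℕ} {p : ℕ} (hp : p.Prime) (h : p ∣ s.lcm) :
    ∃ a ∈ s, p ∣ a := by
  induction s using Multiset.induction_on with
  | empty => simp at h; exact absurd h hp.ne_one
  | cons a t ih =>
    rw [Multiset.lcm_cons] at h
    rcases hp.dvd_mul.1 (h.trans (Nat.lcm_dvd_mul a t.lcm)) with h1 | h1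
    · exact ⟨a, Multiset.mem_cons_self _ _, h1⟩
    · obtain ⟨b, hb, hb'⟩ := ih h1
      exact ⟨b, Multiset.mem_cons_of_mem hb, hb'⟩

theorem even_sum_add_card (s : Multiset ℕ) :
    Even (s.sum + s.card) ↔ Even (s.filter (fun a => Even a)).card := by
  induction s using Multiset.induction_on with
  | empty => simp
  | cons a t ih =>
    rw [Multiset.sum_cons, Multiset.card_cons, show a + t.sum + (t.card + 1) = (a + 1) + (t.sum + t.card) by omega,
      Nat.even_add, ih]
    by_cases ha : Even a
    · rw [Multiset.filter_cons_of_pos (s := t) (p := fun a => Even a) ha, Multiset.card_cons]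
      simp [Nat.even_add_one, ha]
    · rw [Multiset.filter_cons_of_neg (s := t) (p := fun a => Even a) ha]
      simp [Nat.even_add_one, ha]

/-- The multisets with entries in `[2, k + 1]` and sum at most `b`, as lists. -/
def cycleLists : ℕ → ℕ → List (List ℕ)
  | 0, _ => [[]]
  | k + 1, b => (List.range (b / (k + 2) + 1)).flatMap fun c =>
      (cycleLists k (b - c * (k + 2))).map fun l => List.replicate c (k + 2) ++ l

theorem exists_cycleList : ∀ (k b : ℕ) (s : Multiset ℕ), (∀ a ∈ s, 2 ≤ a ∧ a ≤ k + 1) →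
    s.sum ≤ b → ∃ l ∈ cycleLists k b, (l : Multiset ℕ) = s := by
  intro k
  induction k with
  | zero =>
    intro b s hs _
    refine ⟨[], by simp [cycleLists], ?_⟩
    symm
    exact Multiset.eq_zero_of_forall_notMem fun a ha => by have := hs a ha; omega
  | succ k ih =>
    intro b s hs hb
    have hsplit := Multiset.filter_add_not (fun a => a = k + 2) s
    rw [Multiset.filter_eq'] at hsplit
    set c := s.count (k + 2)
    have hsum : c * (k + 2) + (s.filter fun a => ¬ a = k + 2).sum = s.sum := by
      conv_rhs => rw [← hsplit, Multiset.sum_add, Multiset.sum_replicate, smul_eq_mul]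
    obtain ⟨l, hl, hl'⟩ := ih (b - c * (k + 2)) (s.filter fun a => ¬ a = k + 2) (fun a ha => by
      rw [Multiset.mem_filter] at ha
      have := hs a ha.1
      omega) (by omega)
    refine ⟨List.replicate c (k + 2) ++ l, ?_, ?_⟩
    · simp only [cycleLists, List.mem_flatMap, List.mem_range, List.mem_map]
      exact ⟨c, Nat.lt_succ_of_le ((Nat.le_div_iff_mul_le (by omega)).2 (by omega)), l, hl, rfl⟩
    · rw [← hsplit, ← Multiset.coe_add, hl', Multiset.coe_replicate]

end Cfsg.Agent.Alt57
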