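import Mathlib.Algebra.BigOperators.Group.Multiset.Basic
import Mathlib.Tactic

/-! Largest products of positive integers with a given sum. -/

set_option autoImplicit false

namespace Cfsg.Agent.Alt57

/-- The largest product of positive integers with sum `m`. -/
def maxProd : ℕ → ℕ
  | 0 => 1
  | 1 => 1
  | 2 => 2
  | 3 => 3
  | 4 => 4
  | (m + 5) => 3 * maxProd (m + 2)

/-- The largest product of positive integers different from two with sum `m`. -/
def maxProdNoTwo : ℕ → ℕ
  | 0 => 1
  | 1 => 1
  | 2 => 1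
  | 3 => 3
  | 4 => 4
  | 5 => 5
  | 6 => 9
  | 7 => 12
  | 8 => 16
  | (m + 9) => 3 * maxProdNoTwo (m + 6)

theorem maxProd_small : ∀ a < 5, ∀ m < 8, a ≠ 0 → a * maxProd m ≤ maxProd (a + m) := by decide

theorem maxProdNoTwo_small : ∀ a < 6, ∀ m < 12, a ≠ 0 → a ≠ 2 → a * maxProdNoTwo m ≤ maxProdNoTwo (a + m) := by
  decide

theorem maxProd_step (m : ℕ) (h : 2 ≤ m) : maxProd (m + 3) = 3 * maxProd m := by
  obtain ⟨r, rfl⟩ : ∃ r, m = r + 2 := ⟨m - 2, by omega⟩
  rw [show r + 2 + 3 = r + 5 from rfl, maxProd]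

theorem maxProdNoTwo_step (m : ℕ) (h : 6 ≤ m) : maxProdNoTwo (m + 3) = 3 * maxProdNoTwo m := by
  obtain ⟨r, rfl⟩ : ∃ r, m = r + 6 := ⟨m - 6, by omega⟩
  rw [show r + 6 + 3 = r + 9 from rfl, maxProdNoTwo]

theorem mul_maxProd_le (a : ℕ) (ha : a ≠ 0) : ∀ m, a * maxProd m ≤ maxProd (a + m) := by
  induction a using Nat.strong_induction_on with
  | _ a iha =>
    intro m
    rcases lt_or_ge a 5 with h | h
    · induction m using Nat.strong_induction_on with
      | _ m ih =>
        rcases lt_or_ge m 8 with hm | hm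
        · exact maxProd_small a h m hm ha
        · obtain ⟨r, rfl⟩ : ∃ r, m = r + 3 := ⟨m - 3, by omega⟩
          rw [← add_assoc, maxProd_step r (by omega), maxProd_step (a + r) (by omega), mul_left_comm]
          exact Nat.mul_le_mul_left 3 (ih r (by omega))
    · calc a * maxProd m ≤ 3 * ((a - 3) * maxProd m) := by
            rw [← mul_assoc]; exact Nat.mul_le_mul_right _ (by omega)
        _ ≤ 3 * maxProd (a - 3 + m) := Nat.mul_le_mul_left 3 (iha (a - 3) (by omega) (by omega) m)
        _ = maxProd (a - 3 + m + 3) := (maxProd_step _ (by omega)).symm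
        _ = maxProd (a + m) := by congr 1; omega

theorem mul_maxProdNoTwo_le (a : ℕ) (ha : a ≠ 0) (ha2 : a ≠ 2) :
    ∀ m, a * maxProdNoTwo m ≤ maxProdNoTwo (a + m) := by
  induction a using Nat.strong_induction_on with
  | _ a iha =>
    intro m
    rcases lt_or_ge a 6 with h | h
    · induction m using Nat.strong_induction_on with
      | _ m ih =>
        rcases lt_or_ge m 12 with hm | hm
        · exact maxProdNoTwo_small a h m hm ha ha2
        · obtain ⟨r, rfl⟩ : ∃ r, m = r + 3 := ⟨m - 3, by omega⟩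
          rw [← add_assoc, maxProdNoTwo_step r (by omega), maxProdNoTwo_step (a + r) (by omega), mul_left_comm]
          exact Nat.mul_le_mul_left 3 (ih r (by omega))
    · rcases lt_or_ge (a - 3 + m) 6 with hs | hs
      · have h1 : a < 9 := by omega
        have h2 : m < 3 := by omega
        interval_cases a <;> interval_cases m <;> first | omega | decide
      · calc a * maxProdNoTwo m ≤ 3 * ((a - 3) * maxProdNoTwo m) := by
              rw [← mul_assoc]; exact Nat.mul_le_mul_right _ (by omega)
          _ ≤ 3 * maxProdNoTwo (a - 3 + m) :=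
            Nat.mul_le_mul_left 3 (iha (a - 3) (by omega) (by omega) (by omega) m)
          _ = maxProdNoTwo (a - 3 + m + 3) := (maxProdNoTwo_step _ hs).symm
          _ = maxProdNoTwo (a + m) := by congr 1; omega

theorem prod_le_maxProd (s : Multiset ℕ) (h : ∀ a ∈ s, a ≠ 0) : s.prod ≤ maxProd s.sum := by
  induction s using Multiset.induction_on with
  | empty => simp [maxProd]
  | cons a s ih =>
    rw [Multiset.prod_cons, Multiset.sum_cons]
    exact (Nat.mul_le_mul_left a (ih fun b hb => h b (Multiset.mem_cons_of_mem hb))).trans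
      (mul_maxProd_le a (h a (Multiset.mem_cons_self a s)) _)

theorem prod_le_maxProdNoTwo (s : Multiset ℕ) (h : ∀ a ∈ s, a ≠ 0) (h2 : ∀ a ∈ s, a ≠ 2) :
    s.prod ≤ maxProdNoTwo s.sum := by
  induction s using Multiset.induction_on with
  | empty => simp [maxProdNoTwo]
  | cons a s ih =>
    rw [Multiset.prod_cons, Multiset.sum_cons]
    exact (Nat.mul_le_mul_left a (ih (fun b hb => h b (Multiset.mem_cons_of_mem hb))
      (fun b hb => h2 b (Multiset.mem_cons_of_mem hb)))).trans
      (mul_maxProdNoTwo_le a (h a (Multiset.mem_cons_self a s)) (h2 a (Multiset.mem_cons_self a s)) _)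

theorem maxProd_three_mul (k : ℕ) : maxProd (3 * k) = 3 ^ k := by
  induction k with
  | zero => rfl
  | succ k ih =>
    rcases k with _ | k
    · rfl
    · rw [show 3 * (k + 1 + 1) = 3 * (k + 1) + 3 by ring, maxProd_step _ (by omega), ih, pow_succ _ (k + 1)]
      ring

theorem maxProd_three_mul_add_one (k : ℕ) : maxProd (3 * k + 4) = 4 * 3 ^ k := by
  induction k with
  | zero => rfl
  | succ k ih =>
    rw [show 3 * (k + 1) + 4 = 3 * k + 4 + 3 by ring, maxProd_step _ (by omega), ih, pow_succ]
    ring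

theorem maxProdNoTwo_eq (k : ℕ) : maxProdNoTwo (3 * k + 8) = 16 * 3 ^ k := by
  induction k with
  | zero => rfl
  | succ k ih =>
    rw [show 3 * (k + 1) + 8 = 3 * k + 8 + 3 by ring, maxProdNoTwo_step _ (by omega), ih, pow_succ]
    ring

end Cfsg.Agent.Alt57
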